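import Groth.Prelude.Def_AlgEqCyc
import Mathlib.AlgebraicGeometry.AlgClosed.Basic
import Mathlib.AlgebraicGeometry.Morphisms.ClosedImmersion
import Mathlib.AlgebraicGeometry.FunctionField
import Mathlib.AlgebraicGeometry.Morphisms.FiniteType
import Mathlib.RingTheory.SimpleModule.Basic

/-! Points on a smooth projective curve are algebraically equivalent. -/

set_option autoImplicit false

universe u

open AlgebraicGeometry CategoryTheory CategoryTheory.Limits

namespace Groth.Agent.AlgEqPts

theorem length_quot_eq_one {A R S : Type u} [CommRing A] [CommRing R] [CommRing S] [IsLocalRing A]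
    [IsLocalRing R] [Nontrivial S] (K : Ideal R) (ψ : A →+* R) [IsLocalHom ψ] (φ : R →+* S)
    (hK : K = RingHom.ker φ) (hsurj : Function.Surjective (φ.comp ψ)) :
    Module.length R ((R ⧸ K) ⧸
      (IsLocalRing.maximalIdeal A).map ((Ideal.Quotient.mk K).comp ψ)) = 1 := by
  have hKne : K ≠ ⊤ := hK ▸ RingHom.ker_ne_top φ
  have hKm : K ≤ IsLocalRing.maximalIdeal R := IsLocalRing.le_maximalIdeal hKne
  set J := (IsLocalRing.maximalIdeal A).map ((Ideal.Quotient.mk K).comp ψ) with hJ
  have hcomap : J.comap (Ideal.Quotient.mk K) = IsLocalRing.maximalIdeal R := by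
    rw [hJ, ← Ideal.map_map, Ideal.comap_map_of_surjective' _ Ideal.Quotient.mk_surjective,
      Ideal.mk_ker]
    refine le_antisymm (sup_le ?_ hKm) fun r hr => ?_
    · refine Ideal.map_le_iff_le_comap.mpr fun a ha => ?_
      exact fun hu => ha (isUnit_of_map_unit ψ a hu)
    · obtain ⟨a, ha⟩ := hsurj (φ r)
      have hd : r - ψ a ∈ K := by
        rw [hK, RingHom.mem_ker, map_sub, ← ha]; exact sub_self _
      have ham : a ∈ IsLocalRing.maximalIdeal A := by
        intro hu
        have h1 : ψ a ∈ IsLocalRing.maximalIdeal R := by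
          simpa using Ideal.sub_mem _ hr (hKm hd)
        exact h1 (hu.map ψ)
      rw [show r = ψ a + (r - ψ a) by ring]
      exact Submodule.add_mem_sup (Ideal.mem_map_of_mem ψ ham) hd
  let f : R →ₗ[R] (R ⧸ K) ⧸ J :=
    LinearMap.toSpanSingleton R ((R ⧸ K) ⧸ J) (Ideal.Quotient.mk J 1)
  have hf : ∀ r, f r = Ideal.Quotient.mk J (Ideal.Quotient.mk K r) := fun r => by
    show r • Ideal.Quotient.mk J (1 : R ⧸ K) = _
    rw [← Ideal.Quotient.algebraMap_eq (I := K), Algebra.algebraMap_eq_smul_one]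
    rfl
  have hfs : Function.Surjective f := by
    intro x
    obtain ⟨z, rfl⟩ := Ideal.Quotient.mk_surjective x
    obtain ⟨r, rfl⟩ := Ideal.Quotient.mk_surjective z
    exact ⟨r, hf r⟩
  have hker : LinearMap.ker f = IsLocalRing.maximalIdeal R := by
    ext r
    rw [LinearMap.mem_ker, hf, Ideal.Quotient.eq_zero_iff_mem, ← hcomap, Ideal.mem_comap]
  rw [Module.length_eq_one_iff]
  refine @IsSimpleModule.congr R _ _ _ _ _ _ _ (f.quotKerEquivOfSurjective hfs).symm ?_
  rw [isSimpleModule_iff_isCoatom, hker]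
  exact (IsLocalRing.maximalIdeal.isMaximal R).out

theorem ker_specMap_section {P C : Scheme.{u}} (γ : C ⟶ P) [IsIntegral C] (y : C)
    (h : γ (genericPoint C) ⤳ γ y) :
    RingHom.ker (Cyc.specMap (γ y) (γ (genericPoint C)) h) = RingHom.ker (γ.stalkMap y).hom := by
  have hs : genericPoint C ⤳ y := (genericPoint_spec C).specializes trivial
  have key : P.presheaf.stalkSpecializes h ≫ P.residue (γ (genericPoint C)) ≫
      γ.residueFieldMap (genericPoint C) =
      γ.stalkMap y ≫ C.presheaf.stalkSpecializes hs ≫ C.residue (genericPoint C) := by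
    rw [Scheme.residue_residueFieldMap, ← Category.assoc,
      Scheme.Hom.stalkSpecializes_stalkMap γ (genericPoint C) y hs, Category.assoc]
  have inj : Function.Injective
      (C.presheaf.stalkSpecializes hs ≫ C.residue (genericPoint C)).hom := by
    have h1 : Function.Injective (C.presheaf.stalkSpecializes hs).hom :=
      IsFractionRing.injective (C.presheaf.stalk y) C.functionField
    have h2 : Function.Injective (C.residue (genericPoint C)).hom :=
      RingHom.injective (R := C.functionField) (C.residue (genericPoint C)).hom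
    exact h2.comp h1
  have key' : ∀ r, γ.residueFieldMap (genericPoint C) (Cyc.specMap (γ y) _ h r) =
      (C.presheaf.stalkSpecializes hs ≫ C.residue (genericPoint C)).hom (γ.stalkMap y r) :=
    fun r => DFunLike.congr_fun (CommRingCat.hom_ext_iff.mp key) r
  ext r
  rw [RingHom.mem_ker, RingHom.mem_ker]
  constructor
  · intro hr
    refine inj (a₂ := 0) ?_
    rw [← key', hr, map_zero, map_zero]
  · intro hr
    refine (γ.residueFieldMap (genericPoint C)).hom.injective ?_
    rw [map_zero]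
    exact (key' r).trans ((congrArg _ hr).trans (map_zero _))

theorem fibreMult_section {P C : Scheme.{u}} (g : P ⟶ C) (γ : C ⟶ P) (hγ : γ ≫ g = 𝟙 C)
    [IsIntegral C] (y : C) (v w : P) (hv : v = γ y) (hw : w = γ (genericPoint C)) (h : w ⤳ v) :
    AlgEqCyc.fibreMult g v w h = 1 := by
  subst hv hw
  have : IsIso (γ ≫ g) := by rw [hγ]; infer_instance
  have hsurj : Function.Surjective ((γ.stalkMap y).hom.comp (g.stalkMap (γ y)).hom) := by
    have := (ConcreteCategory.bijective_of_isIso ((γ ≫ g).stalkMap y)).2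
    rw [Scheme.Hom.stalkMap_comp] at this
    exact this
  unfold AlgEqCyc.fibreMult
  rw [length_quot_eq_one _ (g.stalkMap (γ y)).hom (γ.stalkMap y).hom
    (ker_specMap_section γ y h) hsurj]
  rfl

section Family

variable {k : Type u} [Field k] {X C : Scheme.{u}} {p : X ⟶ Spec (CommRingCat.of k)}
  {q : C ⟶ Spec (CommRingCat.of k)} (ι : C ⟶ X) (hι : ι ≫ p = q)

/-- The graph of `ι`. -/
noncomputable def graph : C ⟶ pullback p q :=
  pullback.lift ι (𝟙 C) (by rw [hι, Category.id_comp])

theorem graph_fst : graph ι hι ≫ pullback.fst p q = ι := pullback.lift_fst _ _ _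
theorem graph_snd : graph ι hι ≫ pullback.snd p q = 𝟙 C := pullback.lift_snd _ _ _

theorem isClosedImmersion_graph [IsClosedImmersion ι] [IsSeparated q] :
    IsClosedImmersion (graph ι hι) := by
  have : IsClosedImmersion (graph ι hι ≫ pullback.fst p q) := by
    rw [graph_fst]; infer_instance
  exact IsClosedImmersion.of_comp (graph ι hι) (pullback.fst p q)

theorem comp_slice (t : Spec (CommRingCat.of k) ⟶ C) (ht : t ≫ q = 𝟙 _) :
    (t ≫ ι) ≫ AlgEqCyc.slice p q t ht = t ≫ graph ι hι := by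
  refine pullback.hom_ext ?_ ?_
  · simp only [AlgEqCyc.slice, graph, Category.assoc, pullback.lift_fst, Category.comp_id]
  · simp only [AlgEqCyc.slice, graph, Category.assoc, pullback.lift_snd, Category.comp_id]
    rw [← Category.assoc ι, hι, ← Category.assoc, ht, Category.id_comp]

theorem fibreFun_graph [IsIntegral C] [IsClosedImmersion ι] [IsSeparated q]
    [DecidableEq ↥(pullback p q)] [DecidableEq ↥X]
    (t : Spec (CommRingCat.of k) ⟶ C) (ht : t ≫ q = 𝟙 _) (x : X) :
    AlgEqCyc.fibreFun p q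
      (Function.locallyFinsuppWithin.single (graph ι hι (genericPoint C)) (1 : ℤ)) t ht x =
    Function.locallyFinsuppWithin.single (ι (t (IsLocalRing.closedPoint k))) (1 : ℤ) x := by
  haveI := isClosedImmersion_graph ι hι
  have hsupp : ∀ w, Function.locallyFinsuppWithin.single (graph ι hι (genericPoint C)) (1 : ℤ) w
      ≠ 0 → w = graph ι hι (genericPoint C) := fun w hw => by
    simpa using hw
  have hspec : graph ι hι (genericPoint C) ⤳ AlgEqCyc.slice p q t ht x →
      x = ι (t (IsLocalRing.closedPoint k)) := by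
    intro h
    obtain ⟨c, hc⟩ := h.mem_closed (graph ι hι).isClosedEmbedding.isClosed_range
      (Set.mem_range_self _)
    have h1 : ι c = x := by
      calc ι c = (graph ι hι ≫ pullback.fst p q) c := by rw [graph_fst]
        _ = pullback.fst p q (AlgEqCyc.slice p q t ht x) :=
          (Scheme.Hom.comp_apply _ _ _).trans (congrArg _ hc)
        _ = (AlgEqCyc.slice p q t ht ≫ pullback.fst p q) x := (Scheme.Hom.comp_apply _ _ _).symm
        _ = x := by rw [AlgEqCyc.slice, pullback.lift_fst]; rfl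
    have h2 : c = t (IsLocalRing.closedPoint k) := by
      calc c = (graph ι hι ≫ pullback.snd p q) c := by rw [graph_snd]; rfl
        _ = pullback.snd p q (AlgEqCyc.slice p q t ht x) :=
          (Scheme.Hom.comp_apply _ _ _).trans (congrArg _ hc)
        _ = (AlgEqCyc.slice p q t ht ≫ pullback.snd p q) x := (Scheme.Hom.comp_apply _ _ _).symm
        _ = t (p x) := by rw [AlgEqCyc.slice, pullback.lift_snd, Scheme.Hom.comp_apply]
        _ = _ := congrArg t (Subsingleton.elim _ _)
    rw [← h1, h2]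
  rw [Function.locallyFinsuppWithin.single_apply]
  by_cases hx : x = ι (t (IsLocalRing.closedPoint k))
  · rw [if_pos hx]
    have hsl : AlgEqCyc.slice p q t ht x = graph ι hι (t (IsLocalRing.closedPoint k)) := by
      rw [hx]
      exact congrArg (fun f : Spec (CommRingCat.of k) ⟶ pullback p q =>
        f (IsLocalRing.closedPoint k)) (comp_slice ι hι t ht)
    have hs : graph ι hι (genericPoint C) ⤳ AlgEqCyc.slice p q t ht x := by
      rw [hsl]
      exact ((genericPoint_spec C).specializes trivial).map (graph ι hι).continuous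
    unfold AlgEqCyc.fibreFun
    rw [finsum_eq_single _ ⟨graph ι hι (genericPoint C), by simp, hs⟩
      (fun w hw => absurd (Subtype.ext (hsupp w.1 w.2.1)) hw),
      fibreMult_section (pullback.snd p q) (graph ι hι) (graph_snd ι hι)
        (t (IsLocalRing.closedPoint k)) _ _ hsl rfl]
    simp
  · rw [if_neg hx]
    refine finsum_eq_zero_of_forall_eq_zero fun w => ?_
    exact absurd (hspec (hsupp w.1 w.2.1 ▸ w.2.2)) hx

theorem isSeparated_of_isProjectiveOver (hp : Neron.IsProjectiveOver k (Over.mk q)) :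
    IsSeparated q := by
  obtain ⟨n, i, hi, h⟩ := hp
  haveI := hi
  have hP : IsSeparated (CohB1.ProjSpace.toSpec n (ULift.{u} ℤ)) := by
    have h1 : IsSeparated (Proj.toSpecZero (CohB1.polyGrading n (ULift.{u} ℤ))) := inferInstance
    have h2 : IsSeparated (Spec.map (CommRingCat.ofHom
      (algebraMap (ULift.{u} ℤ) (CohB1.polyGrading n (ULift.{u} ℤ) 0)))) := inferInstance
    exact MorphismProperty.comp_mem @IsSeparated _ _ h1 h2
  have hB : IsSeparated (CohB1.ProjSpaceOver.toBase n (Spec (CommRingCat.of k))) :=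
    (inferInstance : IsSeparated (pullback.snd (CohB1.ProjSpace.toSpec n (ULift.{u} ℤ))
      (specULiftZIsTerminal.from (Spec (CommRingCat.of k)))))
  have h' : i ≫ CohB1.ProjSpaceOver.toBase n (Spec (CommRingCat.of k)) = q := h
  rw [← h']
  exact MorphismProperty.comp_mem @IsSeparated i _ inferInstance hB

include hι in
theorem isElemAlgTriv_single_sub_single [DecidableEq ↥X] [IsClosedImmersion ι] (hs : Smooth q)
    (hp : Neron.IsProjectiveOver k (Over.mk q)) (hi : IsIntegral C)
    (hd : topologicalKrullDim ↥C = 1) (t₁ t₂ : Spec (CommRingCat.of k) ⟶ C)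
    (h₁ : t₁ ≫ q = 𝟙 _) (h₂ : t₂ ≫ q = 𝟙 _) :
    AlgEqCyc.IsElemAlgTriv p
      (Function.locallyFinsuppWithin.single (ι (t₁ (IsLocalRing.closedPoint k))) (1 : ℤ) -
        Function.locallyFinsuppWithin.single (ι (t₂ (IsLocalRing.closedPoint k))) (1 : ℤ)) := by
  classical
  haveI := isSeparated_of_isProjectiveOver hp
  refine ⟨C, q, hs, hp, hi, hd,
    Function.locallyFinsuppWithin.single (graph ι hι (genericPoint C)) (1 : ℤ), ?_,
    t₁, t₂, h₁, h₂, fun x => ?_⟩
  · intro w hw
    have hw' : w = graph ι hι (genericPoint C) := by simpa using hw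
    rw [hw', ← Scheme.Hom.comp_apply, graph_snd]
    exact genericPoint_spec C
  · rw [fibreFun_graph ι hι t₁ h₁ x, fibreFun_graph ι hι t₂ h₂ x]
    rfl

end Family

section Chain

variable {k : Type u} [Field k]

/-- A `k`-point in the range of a closed immersion lifts through it. -/
theorem exists_lift_of_mem_range {X C : Scheme.{u}} (ι : C ⟶ X) [IsClosedImmersion ι]
    (P : Spec (CommRingCat.of k) ⟶ X) (h : P (IsLocalRing.closedPoint k) ∈ Set.range ι) :
    ∃ s : Spec (CommRingCat.of k) ⟶ C, s ≫ ι = P := by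
  have hs : Surjective (pullback.fst P ι) := by
    refine ⟨Set.range_eq_univ.mp ?_⟩
    show Set.range (pullback.fst P ι) = Set.univ
    rw [Scheme.Pullback.range_fst, Set.eq_univ_iff_forall]
    intro z
    rw [Set.mem_preimage, Subsingleton.elim z (IsLocalRing.closedPoint k)]
    exact h
  haveI : IsIso (pullback.fst P ι) := isIso_of_isClosedImmersion_of_surjective _
  exact ⟨inv (pullback.fst P ι) ≫ pullback.snd P ι, by
    rw [Category.assoc, ← pullback.condition, IsIso.inv_hom_id_assoc]⟩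

theorem isAlgEquiv_of_connected [IsAlgClosed k] (X : Scheme.{u}) [DecidableEq ↥X]
    (p : X ⟶ Spec (CommRingCat.of k)) (n : ℕ)
    (C : Fin n → Scheme.{u}) (q : (i : Fin n) → (C i ⟶ Spec (CommRingCat.of k)))
    (ι : (i : Fin n) → (C i ⟶ X)) (hι : ∀ i, IsClosedImmersion (ι i)) (hq : ∀ i, ι i ≫ p = q i)
    (hs : ∀ i, Smooth (q i)) (hpr : ∀ i, Neron.IsProjectiveOver k (Over.mk (q i)))
    (hint : ∀ i, IsIntegral (C i)) (hd : ∀ i, topologicalKrullDim ↥(C i) = 1)
    (hconn : _root_.IsConnected (⋃ i, Set.range ⇑(ι i)))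
    (P Q : Spec (CommRingCat.of k) ⟶ X) (hP : P ≫ p = 𝟙 _) (hQ : Q ≫ p = 𝟙 _)
    (hPC : P (IsLocalRing.closedPoint k) ∈ ⋃ i, Set.range ⇑(ι i))
    (hQC : Q (IsLocalRing.closedPoint k) ∈ ⋃ i, Set.range ⇑(ι i)) :
    AlgEqCyc.IsAlgEquiv p
      (Function.locallyFinsuppWithin.single (P (IsLocalRing.closedPoint k)) (1 : ℤ))
      (Function.locallyFinsuppWithin.single (Q (IsLocalRing.closedPoint k)) (1 : ℤ)) := by
  let pt := IsLocalRing.closedPoint k
  let Good : X → Prop := fun z => AlgEqCyc.IsAlgEquiv p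
    (Function.locallyFinsuppWithin.single (P pt) (1 : ℤ))
    (Function.locallyFinsuppWithin.single z (1 : ℤ))
  let I0 : Set (Fin n) := {i | ∀ s, s ≫ q i = 𝟙 _ → Good (ι i (s pt))}
  have step : ∀ i (s : Spec (CommRingCat.of k) ⟶ C i), s ≫ q i = 𝟙 _ → Good (ι i (s pt)) →
      i ∈ I0 := by
    intro i s hs' hg s' hs''
    have := hι i
    have he := AddSubgroup.subset_closure (k := {α | AlgEqCyc.IsElemAlgTriv p α})
      (isElemAlgTriv_single_sub_single (ι i) (hq i) (hs i) (hpr i) (hint i) (hd i) s s' hs' hs'')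
    have := (AlgEqCyc.algTriv p).add_mem hg he
    rwa [sub_add_sub_cancel] at this
  have lift : ∀ (R : Spec (CommRingCat.of k) ⟶ X), R ≫ p = 𝟙 _ → ∀ i,
      R pt ∈ Set.range (ι i) → ∃ s, s ≫ q i = 𝟙 _ ∧ ι i (s pt) = R pt := by
    intro R hR i hRi
    have := hι i
    obtain ⟨s, hs'⟩ := exists_lift_of_mem_range (ι i) R hRi
    refine ⟨s, ?_, ?_⟩
    · rw [← hq i, ← Category.assoc, hs', hR]
    · rw [← Scheme.Hom.comp_apply, hs']
  have sect : ∀ i (c : C i), IsClosed {c} → ∃ s, s ≫ q i = 𝟙 _ ∧ s pt = c := by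
    intro i c hc
    have := hs i
    let s := (pointEquivClosedPoint (q i)).symm ⟨c, hc⟩
    exact ⟨s.1, s.2,
      congrArg Subtype.val ((pointEquivClosedPoint (q i)).apply_symm_apply ⟨c, hc⟩)⟩
  have hclosed : ∀ I : Set (Fin n), IsClosed (⋃ i ∈ I, Set.range (ι i)) := fun I =>
    I.toFinite.isClosed_biUnion fun i _ => (hι i).base_closed.isClosed_range
  have hdisj : ∀ i ∈ I0, ∀ j, j ∉ I0 → Set.range (ι i) ∩ Set.range (ι j) = ∅ := by
    intro i hi j hj
    by_contra hne
    obtain ⟨x, hxi, c, rfl⟩ := Set.nonempty_iff_ne_empty.mpr hne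
    have := hs j
    have : JacobsonSpace ↥(C j) := LocallyOfFiniteType.jacobsonSpace (q j)
    have := hι i
    have := hι j
    obtain ⟨c₁, hc₁, hc₁'⟩ := nonempty_inter_closedPoints (Z := ι j ⁻¹' Set.range (ι i))
      ⟨c, hxi⟩ ((ι i).isClosedEmbedding.isClosed_range.preimage (ι j).continuous).isLocallyClosed
    obtain ⟨c₂, hc₂⟩ := hc₁
    have hcl : IsClosed ({c₂} : Set (C i)) := by
      have h := ((ι j).isClosedEmbedding.isClosedMap {c₁} hc₁').preimage (ι i).continuous
      rw [Set.image_singleton, ← hc₂] at h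
      rwa [← Set.image_singleton, Set.preimage_image_eq _ (ι i).isClosedEmbedding.injective] at h
    obtain ⟨s₂, hs₂, hs₂'⟩ := sect i c₂ hcl
    obtain ⟨s₁, hs₁, hs₁'⟩ := sect j c₁ hc₁'
    refine hj (step j s₁ hs₁ ?_)
    rw [hs₁', ← hc₂, ← hs₂']
    exact hi s₂ hs₂
  obtain ⟨i, hPi⟩ := Set.mem_iUnion.mp hPC
  obtain ⟨sP, hsP, hsP'⟩ := lift P hP i hPi
  have hi0 : i ∈ I0 := step i sP hsP (by
    show AlgEqCyc.IsAlgEquiv p _ _
    rw [hsP', AlgEqCyc.IsAlgEquiv, sub_self]
    exact zero_mem _)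
  obtain ⟨j, hQj⟩ := Set.mem_iUnion.mp hQC
  obtain ⟨sQ, hsQ, hsQ'⟩ := lift Q hQ j hQj
  have hj0 : j ∈ I0 := by
    by_contra hj
    obtain ⟨z, -, hz0, hz1⟩ := isPreconnected_closed_iff.mp hconn.isPreconnected
      (⋃ l ∈ I0, Set.range (ι l)) (⋃ l ∈ I0ᶜ, Set.range (ι l)) (hclosed _) (hclosed _)
      (fun z hz => by
        obtain ⟨l, hl⟩ := Set.mem_iUnion.mp hz
        by_cases h : l ∈ I0
        · exact Or.inl (Set.mem_biUnion h hl)
        · exact Or.inr (Set.mem_biUnion h hl))
      ⟨P pt, hPC, Set.mem_biUnion hi0 hPi⟩ ⟨Q pt, hQC, Set.mem_biUnion hj hQj⟩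
    obtain ⟨a, ha, hza⟩ := Set.mem_iUnion₂.mp hz0
    obtain ⟨b, hb, hzb⟩ := Set.mem_iUnion₂.mp hz1
    exact (Set.eq_empty_iff_forall_notMem.mp (hdisj a ha b hb)) z ⟨hza, hzb⟩
  have := hj0 sQ hsQ
  rw [hsQ'] at this
  exact this

end Chain

end Groth.Agent.AlgEqPts
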